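import Groth.Agent.RootData.Inversions
import Mathlib.Data.Fin.Tuple.Basic

/-!
# Tits' decomposition of an element of the Weyl group sending a simple root to a simple root
-/

namespace Groth.Agent.RootCox

open Function RootD Groth.Agent.RootData

variable {ι R M N : Type*} [CommRing R] [IsDomain R] [CharZero R]
  [AddCommGroup M] [Module R M] [AddCommGroup N] [Module R N]
  {P : RootPairing ι R M N} [Fintype ι] [P.IsCrystallographic] [P.IsReduced] {Δ : Set ι} (hΔ : Simple P Δ)

include hΔ in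
theorem ncard_inv_mul_lt {g : P.Aut} (hg : g ∈ P.weylGroup) {a : ι} (ha : a ∈ Δ)
    (hneg : g • a ∉ posOf P Δ) :
    (inv' P Δ (g * RootPairing.Equiv.reflection P a)).ncard < (inv' P Δ g).ncard := by
  have h := hΔ
  set c := g • P.reflectionPerm a a with hc
  have hsa : RootPairing.Equiv.reflection P (P.reflectionPerm a a) = RootPairing.Equiv.reflection P a :=
    (refl_eq_of_zsmul (c := -1) (by simp)).symm
  have hrc : RootPairing.Equiv.reflection P c = g * RootPairing.Equiv.reflection P a * g⁻¹ := by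
    rw [← hsa, conj_refl]
  have hcp : c ∈ posOf P Δ := by rw [hc, smul_neg_idx, h.neg_mem_posOf_iff]; exact hneg
  have h1 := h.ncard_inv_lt (mul_mem hg (P.reflection_mem_weylGroup a)) hcp (by
    rw [mul_inv_rev, mul_smul, hc, inv_smul_smul, inv_eq_of_mul_eq_one_left (refl_mul_self a),
      refl_smul_idx, P.reflectionPerm_self]
    exact h.subset_posOf ha)
  rwa [hrc, ← mul_assoc, inv_mul_cancel_right, mul_assoc, refl_mul_self, mul_one] at h1

include hΔ in
/-- Minimal element of a coset of the group of two simple reflections. -/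
theorem exists_coset_min (a c : ι) (ha : a ∈ Δ) (hc : c ∈ Δ) :
    ∀ g ∈ P.weylGroup, ∃ g' ∈ P.weylGroup, g'⁻¹ * g ∈ gen P ({a, c} : Set ι) ∧
      (inv' P Δ g').ncard ≤ (inv' P Δ g).ncard ∧ g' • a ∈ posOf P Δ ∧ g' • c ∈ posOf P Δ := by
  intro g
  induction hn : (inv' P Δ g).ncard using Nat.strong_induction_on generalizing g with
  | _ n ih =>
    intro hg
    by_cases h : ∃ x ∈ ({a, c} : Set ι), g • x ∉ posOf P Δ
    · obtain ⟨x, hx, hneg⟩ := h
      have hxΔ : x ∈ Δ := by rcases hx with rfl | rfl <;> assumption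
      have hlt := ncard_inv_mul_lt hΔ hg hxΔ hneg
      obtain ⟨g', hg', hmem, hle, h1, h2⟩ :=
        ih _ (hn ▸ hlt) _ rfl (mul_mem hg (P.reflection_mem_weylGroup x))
      refine ⟨g', hg', ?_, by omega, h1, h2⟩
      have := mul_mem hmem (refl_mem_gen (P := P) hx)
      rwa [mul_assoc, mul_assoc, refl_mul_self, mul_one] at this
    · push Not at h
      exact ⟨g, hg, by simp [one_mem], hn.le, h a (by simp), h c (by simp)⟩

include hΔ in
theorem co_gen_smul_eq_zero {Δ' : Set ι} (hsub : Δ' ⊆ Δ) {v : P.Aut} (hv : v ∈ gen P Δ') {k : ι}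
    (hk : ∀ x, x ∉ Δ' → hΔ.co k x = 0) : ∀ x, x ∉ Δ' → hΔ.co (v • k) x = 0 := by
  classical
  obtain ⟨l, hl, rfl⟩ := exists_word hv
  clear hv
  induction l with
  | nil => simpa [word] using hk
  | cons a t ih =>
    intro x hx
    have ha : a ∈ Δ' := hl a List.mem_cons_self
    rw [word_cons, mul_smul, refl_smul_idx, hΔ.co_refl (hsub ha), Pi.sub_apply,
      ih (fun y hy => hl y (List.mem_cons_of_mem _ hy)) x hx,
      Pi.single_eq_of_ne (fun e : x = a => hx (e ▸ ha)), sub_zero]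

include hΔ in
/-- One step. -/
theorem tits_step {α β : ι} (hα : α ∈ Δ) (hβ : β ∈ Δ) {w : P.Aut} (hw : w ∈ P.weylGroup)
    (hwα : w • α = β) (hne : w ≠ 1) :
    ∃ γ ∈ Δ, ∃ w' ∈ P.weylGroup, ∃ α' ∈ Δ, w'⁻¹ * w ∈ gen P ({α, γ} : Set ι) ∧
      (inv' P Δ w').ncard < (inv' P Δ w).ncard ∧ w' • α' = β ∧ (w'⁻¹ * w) • α = α' ∧
      (α ≠ α' → γ = α') := by
  classical
  obtain ⟨γ, hγ, hneg⟩ : ∃ γ ∈ Δ, w • γ ∉ posOf P Δ := by
    by_contra h; push Not at h; exact hne (hΔ.eq_one_of_pos hw h)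
  have hαγ : α ≠ γ := by rintro rfl; exact hneg (hwα ▸ hΔ.subset_posOf hβ)
  have hlt := ncard_inv_mul_lt hΔ hw hγ hneg
  obtain ⟨w', hw', hmem, hle, hp1, hp2⟩ :=
    exists_coset_min hΔ α γ hα hγ _ (mul_mem hw (P.reflection_mem_weylGroup γ))
  have hv : w'⁻¹ * w ∈ gen P ({α, γ} : Set ι) := by
    have := mul_mem hmem (refl_mem_gen (P := P) (show γ ∈ ({α, γ} : Set ι) by simp))
    rwa [mul_assoc, mul_assoc, refl_mul_self, mul_one] at this
  set v := w'⁻¹ * w with hvdef
  set k := v • α with hk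
  have hsub : ({α, γ} : Set ι) ⊆ Δ := by rintro x (rfl | rfl) <;> assumption
  have hsupp : ∀ x, x ∉ ({α, γ} : Set ι) → hΔ.co k x = 0 := by
    refine co_gen_smul_eq_zero hΔ hsub hv fun x hx => ?_
    rw [hΔ.co_simple hα, Pi.single_eq_of_ne]
    rintro rfl; exact hx (by simp)
  have hwk : w' • k = β := by rw [hk, hvdef, ← mul_smul, mul_inv_cancel_left, hwα]
  have hrk : P.root k = hΔ.co k α • P.root α + hΔ.co k γ • P.root γ := by
    have e : hΔ.co k = Pi.single α (hΔ.co k α) + Pi.single γ (hΔ.co k γ) := by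
      funext x
      by_cases h1 : x = α
      · subst h1; simp [hαγ]
      by_cases h2 : x = γ
      · subst h2; simp [Ne.symm hαγ]
      simp [h1, h2, hsupp x (by simp [h1, h2])]
    rw [← comb_single (P := P) α, ← comb_single (P := P) γ, ← comb_add, ← e, hΔ.co_spec]
  have hβco : hΔ.co β = hΔ.co k α • hΔ.co (w' • α) + hΔ.co k γ • hΔ.co (w' • γ) := by
    refine hΔ.co_unique (fun x hx => by simp [hΔ.co_supp hx]) ?_
    rw [comb_add, comb_smul, comb_smul, hΔ.co_spec, hΔ.co_spec, ← hwk, smul_root, smul_root, smul_root,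
      hrk, smul_add, smul_comm w' (hΔ.co k α), smul_comm w' (hΔ.co k γ)]
  have hht : (1 : ℤ) = hΔ.co k α * hΔ.ht (w' • α) + hΔ.co k γ * hΔ.ht (w' • γ) := by
    rw [← hΔ.ht_simple hβ]
    simp only [Simple.ht, hβco, Pi.add_apply, Pi.smul_apply, smul_eq_mul, Finset.sum_add_distrib,
      Finset.mul_sum]
  have h1 := hΔ.ht_pos hp1
  have h2 := hΔ.ht_pos hp2
  have hkαγ : k = α ∨ k = γ := by
    rcases hΔ.co_sign k with hp | hn
    · have a0 := hp α
      have c0 := hp γ
      have : hΔ.co k α + hΔ.co k γ ≤ 1 := by nlinarith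
      have h01 : (hΔ.co k α = 1 ∧ hΔ.co k γ = 0) ∨ (hΔ.co k α = 0 ∧ hΔ.co k γ = 1) := by
        have : hΔ.co k α + hΔ.co k γ ≠ 0 := by
          intro h0
          have x0 : hΔ.co k α = 0 := by omega
          have y0 : hΔ.co k γ = 0 := by omega
          rw [x0, y0] at hht; simp at hht
        omega
      rcases h01 with ⟨x0, y0⟩ | ⟨x0, y0⟩
      · left; apply P.root.injective; rw [hrk, x0, y0]; simp
      · right; apply P.root.injective; rw [hrk, x0, y0]; simp
    · have a0 := hn α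
      have c0 := hn γ
      nlinarith
  refine ⟨γ, hγ, w', hw', k, ?_, hv, by omega, hwk, rfl, ?_⟩
  · rcases hkαγ with e | e <;> rw [e] <;> assumption
  · intro hne'
    exact (hkαγ.resolve_left (fun e => hne' e.symm)).symm

include hΔ in
theorem tits_decomposition {α β : ι} (hα : α ∈ Δ) (hβ : β ∈ Δ) (w : P.Aut) (hw : w ∈ P.weylGroup)
    (hwα : w • α = β) :
    ∃ (m : ℕ) (a : Fin (m + 1) → ι) (ws : Fin m → P.Aut),
      (∀ i, a i ∈ Δ) ∧ a 0 = α ∧ a (Fin.last m) = β ∧
      (∀ i, ws i ∈ P.weylGroup) ∧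
      w = (List.ofFn fun i : Fin m => ws (Fin.rev i)).prod ∧
      (∀ i : Fin m, ws i • a (Fin.castSucc i) = a (Fin.succ i)) ∧
      ∀ i : Fin m, ∃ γ ∈ Δ,
        ws i ∈ Subgroup.closure {RootPairing.Equiv.reflection P (a (Fin.castSucc i)), RootPairing.Equiv.reflection P γ} ∧
        (a (Fin.castSucc i) ≠ a (Fin.succ i) → γ = a (Fin.succ i)) := by
  induction hn : (inv' P Δ w).ncard using Nat.strong_induction_on generalizing w α with
  | _ n ih =>
    by_cases hne : w = 1
    · subst hne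
      rw [one_smul] at hwα
      subst hwα
      exact ⟨0, fun _ => α, fun i => i.elim0, fun _ => hα, rfl, rfl, fun i => i.elim0, by simp,
        fun i => i.elim0, fun i => i.elim0⟩
    · obtain ⟨γ, hγ, w', hw', α', hα', hv, hlt, hwk, hvα, himp⟩ := tits_step hΔ hα hβ hw hwα hne
      obtain ⟨m, a, ws, ha, ha0, hal, hws, hprod, hstep, hgam⟩ := ih _ (hn ▸ hlt) hα' w' hw' hwk rfl
      refine ⟨m + 1, Fin.cons α a, Fin.cons (w'⁻¹ * w) ws, ?_, rfl, ?_, ?_, ?_, ?_, ?_⟩
      · exact fun i => Fin.cases (by simpa using hα) (fun j => by simpa using ha j) i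
      · rw [← Fin.succ_last, Fin.cons_succ, hal]
      · exact fun i => Fin.cases (by simpa using mul_mem (inv_mem hw') hw) (fun j => by simpa using hws j) i
      · rw [List.ofFn_succ', List.prod_concat]
        have e : (fun i : Fin m => (Fin.cons (w'⁻¹ * w) ws : Fin (m + 1) → P.Aut) (Fin.rev i.castSucc)) =
            fun i => ws (Fin.rev i) := by
          funext i; rw [Fin.rev_castSucc, Fin.cons_succ]
        rw [e, ← hprod, Fin.rev_last, Fin.cons_zero, mul_inv_cancel_left]
      · refine fun i => Fin.cases ?_ (fun j => ?_) i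
        · rw [Fin.castSucc_zero, Fin.cons_zero, Fin.cons_zero, Fin.cons_succ, ha0]; exact hvα
        · simpa [Fin.castSucc_succ] using hstep j
      · refine fun i => Fin.cases ⟨γ, hγ, ?_, ?_⟩ (fun j => ?_) i
        · simpa [gen, Set.image_pair] using hv
        · simpa [ha0] using himp
        · simpa [Fin.castSucc_succ] using hgam j

end Groth.Agent.RootCox
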