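import Groth.Agent.RootCox.Matsumoto
import Groth.Agent.RootData.Inversions

/-!
# The Weyl group of a reduced root pairing as a Coxeter group
-/

namespace Groth.Agent.RootCox

open Function RootD Groth.Agent.RootData

variable {ι R M N : Type*} [CommRing R] [IsDomain R] [CharZero R]
  [AddCommGroup M] [Module R M] [AddCommGroup N] [Module R N]
  {P : RootPairing ι R M N} [Fintype ι] [P.IsCrystallographic] {Δ : Set ι} (hΔ : Simple P Δ)

variable (P Δ) in
/-- The simple reflections, as elements of the Weyl group. -/
def simpleRefl (a : Δ) : P.weylGroup :=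
  ⟨RootPairing.Equiv.reflection P (a : ι), P.reflection_mem_weylGroup _⟩

theorem coe_prod_simpleRefl (l : List Δ) :
    (((l.map (simpleRefl P Δ)).prod : P.weylGroup) : P.Aut) = word P (l.map Subtype.val) := by
  induction l with
  | nil => simp [word]
  | cons a t ih => rw [List.map_cons, List.map_cons, word_cons, List.prod_cons, Subgroup.coe_mul, ih]; rfl

theorem simpleRefl_mul_self (a : Δ) : simpleRefl P Δ a * simpleRefl P Δ a = 1 :=
  Subtype.ext (refl_mul_self _)

include hΔ in
theorem simpleRefl_ne (a b : Δ) (h : a ≠ b) : simpleRefl P Δ a ≠ simpleRefl P Δ b := by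
  classical
  intro e
  have e' := congrArg (fun g : P.weylGroup => (g : P.Aut) • (a : ι)) e
  simp only [simpleRefl, refl_smul_idx] at e'
  have h1 := congrFun (congrArg hΔ.co e') (a : ι)
  rw [hΔ.co_neg, hΔ.co_refl b.2, hΔ.co_simple a.2] at h1
  simp [Pi.single_eq_of_ne (fun h' : (a : ι) = b => h (Subtype.ext h'))] at h1

include hΔ in
theorem exists_simple_word (w : P.weylGroup) :
    ∃ l : List Δ, (l.map (simpleRefl P Δ)).prod = w := by
  obtain ⟨l, hl, he⟩ := exists_word (P := P) (Δ := Δ) (g := (w : P.Aut)) (by rw [hΔ.gen_eq_weylGroup]; exact w.2)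
  lift l to List Δ using hl
  exact ⟨l, Subtype.ext ((coe_prod_simpleRefl l).trans he)⟩

include hΔ in
theorem hasExchange [P.IsReduced] : HasExchange (simpleRefl P Δ) := by
  have h := hΔ
  intro b l hl
  -- deletion of a letter from any word whose inverse sends `b` to a negative root
  have del : ∀ l : List Δ, (word P (l.map Subtype.val))⁻¹ • (b : ι) ∉ posOf P Δ →
      ∃ i, i < l.length ∧ ((b :: l.eraseIdx i).map (simpleRefl P Δ)).prod = (l.map (simpleRefl P Δ)).prod := by
    intro l hneg
    obtain ⟨i, hi, hie⟩ := h.exchange_root (l.map Subtype.val) (by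
      intro x hx; obtain ⟨y, -, rfl⟩ := List.mem_map.mp hx; exact y.2) b (h.subset_posOf b.2) hneg
    rw [List.length_map] at hi
    refine ⟨i, hi, Subtype.ext ?_⟩
    rw [coe_prod_simpleRefl, coe_prod_simpleRefl, List.map_cons, word_cons]
    rw [List.eraseIdx_eq_take_drop_succ, List.map_append, word_append, List.map_take, ← hie, mul_assoc,
      ← List.map_take, ← word_append, ← List.map_append, List.take_append_drop, ← mul_assoc,
      refl_mul_self, one_mul]
  by_cases hneg : (word P (l.map Subtype.val))⁻¹ • (b : ι) ∈ posOf P Δ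
  · refine Or.inl fun l' e => ?_
    have hn : (word P (l'.map Subtype.val))⁻¹ • (b : ι) ∉ posOf P Δ := by
      rw [← coe_prod_simpleRefl, e, coe_prod_simpleRefl, List.map_cons, word_cons, mul_inv_rev, mul_smul,
        inv_eq_of_mul_eq_one_left (refl_mul_self _), refl_smul_idx, smul_neg_idx, h.neg_mem_posOf_iff,
        not_not]
      exact hneg
    obtain ⟨i, hi, hie⟩ := del l' hn
    have h1 := hl (l'.eraseIdx i) (by
      have := hie.trans e
      simpa using this)
    rw [List.length_eraseIdx_of_lt hi] at h1
    simp; omega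
  · exact Or.inr (del l hneg)

theorem orderOf_simpleRefl_mul (a b : Δ) :
    orderOf (simpleRefl P Δ a * simpleRefl P Δ b) =
      orderOf (RootPairing.Equiv.reflection P (a : ι) * RootPairing.Equiv.reflection P (b : ι)) :=
  (Subgroup.orderOf_coe (simpleRefl P Δ a * simpleRefl P Δ b)).symm

include hΔ in
theorem exists_coxeterSystem [P.IsReduced] :
    ∃ (C : CoxeterMatrix Δ) (cs : CoxeterSystem C P.weylGroup),
      (∀ j : Δ, cs.simple j = simpleRefl P Δ j) ∧
      ∀ j k : Δ, C.M j k =
        orderOf (RootPairing.Equiv.reflection P (j : ι) * RootPairing.Equiv.reflection P (k : ι)) := by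
  obtain ⟨cs, hcs⟩ := exists_coxeterSystem_of_exchange simpleRefl_mul_self (simpleRefl_ne hΔ)
    (exists_simple_word hΔ) (hasExchange hΔ)
  exact ⟨_, cs, hcs, fun j k => orderOf_simpleRefl_mul j k⟩

end Groth.Agent.RootCox
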