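import Mathlib.GroupTheory.Coxeter.Basic
import Mathlib.GroupTheory.OrderOfElement
import Mathlib.Data.List.Induction
import Mathlib.Tactic.Group

/-!
# Matsumoto's theorem for a group with involutive generators satisfying the exchange condition

If `s : B → W` are involutive generators of a group `W` such that for every reduced word `l` and
every generator `b` either `b :: l` is reduced or `s b * π l` is obtained by deleting one letter of
`l`, then `(W, s)` is a Coxeter system for the matrix of orders of the products `s a * s b`.
-/

namespace Groth.Agent.RootCox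

variable {B W : Type*} [Group W] (s : B → W)

/-- A word is reduced if no shorter word has the same product. -/
def IsRedWord (l : List B) : Prop :=
  ∀ l' : List B, (l'.map s).prod = (l.map s).prod → l.length ≤ l'.length

/-- The exchange condition. -/
def HasExchange : Prop :=
  ∀ (b : B) (l : List B), IsRedWord s l →
    IsRedWord s (b :: l) ∨ ∃ i, i < l.length ∧ ((b :: l.eraseIdx i).map s).prod = (l.map s).prod

/-- The alternating word `a b a b ⋯` of length `n`. -/
def altWord (a b : B) : ℕ → List B
  | 0 => []
  | n + 1 => a :: altWord b a n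

variable {s}

theorem length_altWord : ∀ (n : ℕ) (a b : B), (altWord a b n).length = n
  | 0, _, _ => rfl
  | n + 1, a, b => by simp [altWord, length_altWord n b a]

theorem pow_shift {x y : W} (k : ℕ) : x * (y * x) ^ k * y = (x * y) ^ (k + 1) := by
  have h : SemiconjBy x (y * x) (x * y) := by simp [SemiconjBy, mul_assoc]
  rw [(h.pow_right k).eq, pow_succ, mul_assoc]

theorem altWord_mul_inv (hs : ∀ a, s a * s a = 1) : ∀ (n : ℕ) (a b : B),
    ((altWord a b n).map s).prod * ((altWord b a n).map s).prod⁻¹ = (s a * s b) ^ n
  | 0, a, b => by simp [altWord]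
  | n + 1, a, b => by
    have hb : (s b)⁻¹ = s b := inv_eq_of_mul_eq_one_left (hs b)
    have ih := altWord_mul_inv hs n b a
    simp only [altWord, List.map_cons, List.prod_cons, mul_inv_rev, hb]
    calc s a * ((altWord b a n).map s).prod * (((altWord a b n).map s).prod⁻¹ * s b)
        = s a * (s b * s a) ^ n * s b := by rw [← ih]; group
      _ = (s a * s b) ^ (n + 1) := pow_shift n

theorem IsRedWord.tail {a : B} {t : List B} (h : IsRedWord s (a :: t)) : IsRedWord s t := by
  intro l' e
  simpa using h (a :: l') (by simp [e])

theorem IsRedWord.init {a : B} {t : List B} (h : IsRedWord s (t ++ [a])) : IsRedWord s t := by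
  intro l' e
  simpa using h (l' ++ [a]) (by simp [e])

theorem IsRedWord.of_eq {l l' : List B} (h : IsRedWord s l) (e : (l'.map s).prod = (l.map s).prod)
    (hlen : l'.length = l.length) : IsRedWord s l' := by
  intro t ht; rw [hlen]; exact h t (ht.trans e)

variable {G : Type*} [Group G] {f : B → G}

theorem prod_map_eq_of_isRedWord (hs : ∀ a, s a * s a = 1) (hf₂ : ∀ a, f a * f a = 1)
    (hf : ∀ a b n, (s a * s b) ^ n = 1 → (f a * f b) ^ n = 1) (hex : HasExchange s) :
    ∀ (n : ℕ) (l t : List B), IsRedWord s l → l.length = n → t.length = n →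
      (l.map s).prod = (t.map s).prod → (l.map f).prod = (t.map f).prod := by
  intro n
  induction n with
  | zero => intro l t _ hl ht _; simp [List.length_eq_zero_iff.mp hl, List.length_eq_zero_iff.mp ht]
  | succ n ih =>
    have head : ∀ (a : B) (l t : List B), IsRedWord s (a :: l) → l.length = n → t.length = n →
        ((a :: l).map s).prod = ((a :: t).map s).prod →
        ((a :: l).map f).prod = ((a :: t).map f).prod := by
      intro a l t hl h1 h2 e
      simp only [List.map_cons, List.prod_cons, mul_right_inj] at e ⊢
      exact ih l t hl.tail h1 h2 e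
    have last : ∀ (a : B) (l t : List B), IsRedWord s (l ++ [a]) → l.length = n → t.length = n →
        ((l ++ [a]).map s).prod = ((t ++ [a]).map s).prod →
        ((l ++ [a]).map f).prod = ((t ++ [a]).map f).prod := by
      intro a l t hl h1 h2 e
      simp only [List.map_append, List.map_cons, List.map_nil, List.prod_append, List.prod_cons,
        List.prod_nil, mul_one, mul_left_inj] at e ⊢
      exact ih l t hl.init h1 h2 e
    -- from a pair with different values we get a new such pair
    have step : ∀ (l t : List B) (b : B), IsRedWord s l → l.length = n + 1 → t.length = n + 1 →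
        (l.map s).prod = (t.map s).prod → (l.map f).prod ≠ (t.map f).prod → t.head? = some b →
        ((b :: l.dropLast).map s).prod = (l.map s).prod ∧
          ((b :: l.dropLast).map f).prod ≠ (l.map f).prod := by
      intro l t b hl h1 h2 e hne hb
      obtain ⟨t', rfl⟩ : ∃ t', t = b :: t' := by
        cases t with
        | nil => simp at hb
        | cons x xs => simp at hb; exact ⟨xs, by rw [hb]⟩
      have hnr : ¬ IsRedWord s (b :: l) := by
        intro h
        have := h t' (by
          simp only [List.map_cons, List.prod_cons] at e ⊢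
          rw [e, ← mul_assoc, hs, one_mul])
        simp at this h2; omega
      obtain ⟨i, hi, hie⟩ := (hex b l hl).resolve_left hnr
      have hlen : (l.eraseIdx i).length = n := by
        rw [List.length_eraseIdx_of_lt hi]; omega
      have hu : IsRedWord s (b :: l.eraseIdx i) := hl.of_eq hie (by simp [hlen, h1])
      have h2' : t'.length = n := by simpa using h2
      have hFt : ((b :: l.eraseIdx i).map f).prod = ((b :: t').map f).prod :=
        head b _ _ hu hlen h2' (hie.trans e)
      have hd : l.eraseIdx i = l.dropLast := by
        by_cases hin : i + 1 = l.length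
        · rw [← List.eraseIdx_eq_dropLast (i := i) hin]
        · exfalso
          apply hne
          rw [← hFt]
          have hlne : l ≠ [] := by intro h; simp [h] at hi
          obtain ⟨l₀, c, rfl⟩ : ∃ l₀ c, l = l₀ ++ [c] :=
            ⟨l.dropLast, l.getLast hlne, (List.dropLast_append_getLast hlne).symm⟩
          have hil : i < l₀.length := by simp at hi hin ⊢; omega
          rw [List.eraseIdx_append_of_lt_length hil] at hie ⊢
          simp at h1
          have := last c l₀ (b :: l₀.eraseIdx i) hl h1
            (by simp [List.length_eraseIdx_of_lt hil]; omega) (by simpa using hie.symm)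
          simpa using this
      rw [hd] at hie hFt
      exact ⟨hie, fun h => hne (by rw [← h, hFt])⟩
    -- iterate
    have iter : ∀ (l t : List B), IsRedWord s l → l.length = n + 1 → t.length = n + 1 →
        (l.map s).prod = (t.map s).prod → (l.map f).prod ≠ (t.map f).prod → ∀ k ≤ n,
        ∃ (a b : B) (l' t' : List B), IsRedWord s l' ∧ l'.length = n + 1 ∧ t'.length = n + 1 ∧
          (l'.map s).prod = (t'.map s).prod ∧ (l'.map f).prod ≠ (t'.map f).prod ∧
          t'.head? = some b ∧ l'.take (k + 1) = altWord a b (k + 1) ∧ t'.take k = altWord b a k := by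
      intro l t hl h1 h2 e hne k
      induction k with
      | zero =>
        intro _
        obtain ⟨a, l', rfl⟩ := List.exists_cons_of_length_eq_add_one h1
        obtain ⟨b, t', rfl⟩ := List.exists_cons_of_length_eq_add_one h2
        exact ⟨a, b, _, _, hl, h1, h2, e, hne, rfl, by simp [altWord], by simp [altWord]⟩
      | succ k ihk =>
        intro hk
        obtain ⟨a, b, l', t', hl', h1', h2', e', hne', hb, hta, htb⟩ := ihk (by omega)
        obtain ⟨e'', hne''⟩ := step l' t' b hl' h1' h2' e' hne' hb
        have hlen : (b :: l'.dropLast).length = n + 1 := by simp [h1']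
        refine ⟨b, a, b :: l'.dropLast, l', hl'.of_eq e'' (by simp [h1']), hlen, h1', e'', hne'',
          ?_, ?_, hta⟩
        · have := congrArg List.head? hta
          simpa [altWord, List.head?_take] using this
        · rw [List.take_succ_cons, List.dropLast_eq_take, List.take_take, h1',
            min_eq_left (by omega), hta]
          rfl
    intro l t hl h1 h2 e
    by_contra hne
    obtain ⟨a, b, l', t', hl', h1', h2', e', hne', hb, hta, -⟩ := iter l t hl h1 h2 e hne n le_rfl
    obtain ⟨e'', hne''⟩ := step l' t' b hl' h1' h2' e' hne' hb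
    have hl'a : l' = altWord a b (n + 1) := by rw [← hta, List.take_of_length_le (by omega)]
    have hub : b :: l'.dropLast = altWord b a (n + 1) := by
      have hdrop : ∀ (m : ℕ) (x y : B), (altWord x y (m + 1)).dropLast = altWord x y m := by
        intro m
        induction m with
        | zero => intro x y; simp [altWord]
        | succ m ihm =>
          intro x y
          show (x :: altWord y x (m + 1)).dropLast = _
          rw [List.dropLast_cons_of_ne_nil (by simp [altWord]), ihm]
          rfl
      rw [hl'a, hdrop]
      rfl
    rw [hl'a] at e'' hne''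
    rw [← hl'a, hub, hl'a] at e'' hne''
    have h := altWord_mul_inv hs (n + 1) b a
    rw [e'', mul_inv_cancel] at h
    refine hne'' (mul_inv_eq_one.mp ?_)
    rw [altWord_mul_inv hf₂]
    exact hf b a _ h.symm

variable (s) in
/-- The Coxeter matrix of orders of products of two generators. -/
noncomputable def orderMatrix (hs : ∀ a, s a * s a = 1) (hne : ∀ a b, a ≠ b → s a ≠ s b) :
    CoxeterMatrix B where
  M := Matrix.of fun a b => orderOf (s a * s b)
  isSymm := by
    refine Matrix.IsSymm.ext fun a b => ?_
    show orderOf (s b * s a) = orderOf (s a * s b)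
    rw [← orderOf_inv (s a * s b), mul_inv_rev, inv_eq_of_mul_eq_one_left (hs a),
      inv_eq_of_mul_eq_one_left (hs b)]
  diagonal a := by simp [hs]
  off_diagonal a b h e := hne a b h (by
    have := orderOf_eq_one_iff.mp e
    rw [← inv_eq_of_mul_eq_one_left this, inv_eq_of_mul_eq_one_left (hs b)])

theorem orderMatrix_apply (hs : ∀ a, s a * s a = 1) (hne : ∀ a b, a ≠ b → s a ≠ s b) (a b : B) :
    (orderMatrix s hs hne).M a b = orderOf (s a * s b) := rfl

/-- The exchange condition gives a Coxeter system. -/
theorem exists_coxeterSystem_of_exchange (hs : ∀ a, s a * s a = 1)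
    (hne : ∀ a b, a ≠ b → s a ≠ s b) (hgen : ∀ w : W, ∃ l : List B, (l.map s).prod = w)
    (hex : HasExchange s) :
    ∃ cs : CoxeterSystem (orderMatrix s hs hne) W, ∀ a, cs.simple a = s a := by
  classical
  set C := orderMatrix s hs hne with hC
  set cs₀ := C.toCoxeterSystem with hcs₀
  have hlift : CoxeterMatrix.IsLiftable C s := fun a b => pow_orderOf_eq_one _
  set π : C.Group →* W := cs₀.lift ⟨s, hlift⟩ with hπdef
  have hπ : ∀ a, π (cs₀.simple a) = s a := fun a => cs₀.lift_apply_simple hlift a
  have hπl : ∀ l : List B, π (l.map cs₀.simple).prod = (l.map s).prod := by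
    intro l; simp [map_list_prod, List.map_map, Function.comp_def, hπ]
  have hf₂ : ∀ a, cs₀.simple a * cs₀.simple a = 1 := fun a => cs₀.simple_mul_simple_self a
  have hf : ∀ a b n, (s a * s b) ^ n = 1 → (cs₀.simple a * cs₀.simple b) ^ n = 1 := by
    intro a b n h
    obtain ⟨k, rfl⟩ : orderOf (s a * s b) ∣ n := orderOf_dvd_of_pow_eq_one h
    rw [pow_mul, show orderOf (s a * s b) = C.M a b from rfl, cs₀.simple_mul_simple_pow, one_pow]
  have hred : ∀ w : W, ∃ l : List B, (l.map s).prod = w ∧ IsRedWord s l := by
    intro w
    have hex' : ∃ n, ∃ l : List B, (l.map s).prod = w ∧ l.length = n := by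
      obtain ⟨l, hl⟩ := hgen w; exact ⟨_, l, hl, rfl⟩
    obtain ⟨l, hl, hlen⟩ := Nat.find_spec hex'
    exact ⟨l, hl, fun l' e => hlen ▸ Nat.find_min' hex' ⟨l', e.trans hl, rfl⟩⟩
  choose r hr hrr using hred
  set ψ : W → C.Group := fun w => ((r w).map cs₀.simple).prod with hψ
  have hψl : ∀ l, IsRedWord s l → ψ ((l.map s).prod) = (l.map cs₀.simple).prod := by
    intro l hl
    have h1 : (r ((l.map s).prod)).length = l.length :=
      le_antisymm (hrr _ l (hr _).symm) (hl _ (hr _))
    exact prod_map_eq_of_isRedWord hs hf₂ hf hex l.length _ _ (hrr _) h1 rfl (hr _)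
  have hψmul : ∀ (b : B) (w : W), ψ (s b * w) = cs₀.simple b * ψ w := by
    intro b w
    obtain ⟨l, rfl, hl⟩ : ∃ l, (l.map s).prod = w ∧ IsRedWord s l := ⟨r w, hr w, hrr w⟩
    rw [hψl l hl]
    rcases hex b l hl with h | ⟨i, hi, hie⟩
    · have := hψl _ h
      simpa using this
    · have hlen : (b :: l.eraseIdx i).length = l.length := by
        simp [List.length_eraseIdx_of_lt hi]; omega
      have hu := hl.of_eq hie hlen
      have h1 := hψl _ hu.tail
      have h2 : (l.map cs₀.simple).prod = ((b :: l.eraseIdx i).map cs₀.simple).prod := by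
        rw [← hψl l hl, ← hψl _ hu, hie]
      rw [h2, ← hie]
      simp only [List.map_cons, List.prod_cons, ← mul_assoc, hs, hf₂, one_mul]
      exact h1
  have hinv : ∀ g : C.Group, ψ (π g) = g := by
    intro g
    induction g using cs₀.simple_induction_left with
    | one => simpa using hψl [] (fun _ _ => Nat.zero_le _)
    | mul_simple_left w i ih => rw [map_mul, hπ, hψmul, ih]
  have hsurj : ∀ w : W, π (ψ w) = w := fun w => by rw [hψ, hπl, hr]
  let e : W ≃* C.Group := (MulEquiv.mk ⟨π, ψ, hinv, hsurj⟩ (map_mul π)).symm
  refine ⟨⟨e⟩, fun a => ?_⟩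
  show π (PresentedGroup.of a) = s a
  exact hπ a

end Groth.Agent.RootCox
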